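import Groth.Agent.Krr.H484.PnFree
import Groth.Agent.Krr.H484.PBTransport
import Groth.Agent.Krr.H484.PBUnique
import Groth.Agent.Krr.H483.PBTop
import Groth.Agent.Ega2.TensPow
import Groth.Agent.Mor.K386.HQP
import Groth.Agent.CalgB.ProjImm2
import Groth.Agent.Krr.H495.Rank
import Groth.Agent.S9695
import Groth.Agent.S17231

/-!
# A projective bundle over a scheme with an ample module has an ample module
-/

set_option autoImplicit false
universe u
open CategoryTheory CategoryTheory.Limits AlgebraicGeometry TopologicalSpace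

namespace K241.AmplePB

open Groth.Agent

theorem isRelVeryAmplePn_restrict {X P : Scheme.{u}} {r : ℕ} {p : P ⟶ X} {E : X.Modules} {O1 : P.Modules}
    {q : (Scheme.Modules.pullback p).obj E ⟶ O1} (B : KRR.IsProjBundle p E O1 q) (V : X.Opens)
    (e : E.restrict V.ι ≅ FlatMod.freeMod (V : Scheme.{u}) (r + 1)) :
    RelAmple.IsRelVeryAmplePn (p ∣_ V) (O1.restrict (p ⁻¹ᵁ V).ι) := by
  have sq : IsPullback (p ⁻¹ᵁ V).ι (p ∣_ V) p V.ι := isPullback_morphismRestrict p V |>.flip
  have B1 := Groth.Agent.Krr.H484.PBTransport.baseChange sq B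
  have B2 := Groth.Agent.Krr.H484.PBTransport.of_iso
    (((Scheme.Modules.restrictFunctorIsoPullback V.ι).app E).symm ≪≫ e) B1
  obtain ⟨φ, hg, ε, -⟩ := Groth.Agent.Krr.H484.PBUnique.exists_iso B2
    (Groth.Agent.Krr.H484.PnFree.isProjBundle_over r (V : Scheme.{u}))
  refine ⟨r, φ.hom, inferInstance, hg, ⟨?_⟩⟩
  exact (Scheme.Modules.restrictFunctorIsoPullback _).app O1 ≪≫ ε.symm

/-- The tautological module of a projective bundle is relatively ample. -/
theorem isRelAmple_O1 {X P : Scheme.{u}} {r : ℕ} {p : P ⟶ X} [LocallyOfFiniteType p] [QuasiCompact p]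
    {E : X.Modules} (hE : FlatMod.IsFinLocFreeOfRank (r + 1) E) {O1 : P.Modules}
    {q : (Scheme.Modules.pullback p).obj E ⟶ O1} (B : KRR.IsProjBundle p E O1 q) :
    RelAmple.IsRelAmple p O1 := by
  refine (Groth.Agent.S9695.result p O1
    (Groth.Agent.Ega2.QCohLocal.isFinLocFreeOfRank_one_iff.1 B.invertible)).mpr ?_
  choose V hV e using hE
  refine ⟨X, V, ?_, fun x => ⟨1, one_pos, ?_⟩⟩
  · rw [eq_top_iff]
    intro x _
    exact Opens.mem_iSup.2 ⟨x, hV x⟩
  · refine Groth.Agent.K385.VeryAmpleBC.of_iso (isRelVeryAmplePn_restrict B (V x) (e x).some) ?_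
    exact (Scheme.Modules.restrictFunctor _).mapIso (Groth.Agent.Ega2.TensPow.powOne O1).symm

theorem exists_ample {Y P : Scheme.{u}} [AlgebraicGeometry.IsNoetherian Y] (q : P ⟶ Y) {r : ℕ} {E : Y.Modules}
    (hE : FlatMod.IsFinLocFreeOfRank r E) {O1 : P.Modules} {u : (Scheme.Modules.pullback q).obj E ⟶ O1}
    (B : KRR.IsProjBundle q E O1 u)
    {KP : Type*} [CommRing KP] [LambdaRing.LambdaOps KP] {PP : LambdaRing.PosStructure KP}
    {φP : SGA6.Kvb P →+ KP} (hKP : KRR.IsModel P KP PP φP) (hY : ∃ H : Y.Modules, CohB1.IsAmple H) :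
    ∃ H : P.Modules, CohB1.IsAmple H := by
  have := B.epi
  obtain ⟨r, rfl⟩ : ∃ r' : ℕ, r = r' + 1 :=
    ⟨r - 1, by have := S17231.one_le_rank q hE u B.invertible hKP; omega⟩
  have : IsProper q := Krr.H483.PBTop.isProper hE B
  exact (CalgB.ProjImm.exists_isAmple_iff_exists_isRelAmple hY q).2 ⟨O1, isRelAmple_O1 hE B⟩

end K241.AmplePB
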