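import Groth.Prelude.Def_KDet
import Groth.Agent.Krr.H482.PullFinal
import Groth.Agent.Krr.H495.ExtExist
import Groth.Agent.Krr.H495.Rank
import Groth.Agent.Ega2.QCohLocal

/-!
# The determinant commutes with pull-back on the models of `K^•`
-/

set_option autoImplicit false
universe u
open CategoryTheory CategoryTheory.Limits AlgebraicGeometry

namespace K241.DetPull

open Groth.Agent Groth.Agent.Krr.H482.PullLambda

variable {X Y : Scheme.{u}}
  {KX : Type u} [CommRing KX] {φX : SGA6.Kvb X →+ KX}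
  {KY : Type u} [CommRing KY] [LambdaRing.LambdaOps KY] {PY : LambdaRing.PosStructure KY}
  {φY : SGA6.Kvb Y →+ KY} (hKY : KRR.IsModel Y KY PY φY)
  [PicGrp.Law X] [PicGrp.Law Y] {dtX : KX →+ Additive (PicLoc.PicSet X)} (hdtX : KDet.IsDet φX dtX)
  {dtY : KY →+ Additive (PicLoc.PicSet Y)} (hdtY : KDet.IsDet φY dtY)
  (h : X ⟶ Y) (hmul : PicGrp.PullMul h) {pl : KY →+ KX} (hpl : KRR.IsPull h φY φX pl)

include hKY hdtX hdtY hpl in
theorem det_pull (z : KY) :
    dtX (pl z) = Additive.ofMul (PicGrp.pullHom h hmul (Additive.toMul (dtY z))) := by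
  refine model_induction hKY (C := fun z =>
    dtX (pl z) = Additive.ofMul (PicGrp.pullHom h hmul (Additive.toMul (dtY z)))) ?_ ?_ z
  · intro n E hn hE
    have hEf : FlatMod.IsFinLocFree E := Groth.Agent.Krr.H495.Rank.isFinLocFree_of_rank hE
    obtain ⟨D, hDf, hD⟩ := Groth.Agent.Krr.H495.ExtExist.exists_isExtPow n E hEf
    have hD1 : PicF.IsInvertible D := by
      have := Groth.Agent.Krr.H495.Rank.rank_extPow hE hD
      rw [Nat.choose_self] at this
      exact Groth.Agent.Ega2.QCohLocal.isFinLocFreeOfRank_one_iff.1 this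
    have hE' := isFinLocFreeOfRank_pullback h hE
    have hD' := Groth.Agent.Krr.H482.PullFinal.isExtPow_pullback h hEf hD
    rw [hpl E hEf, hdtX n _ _ (PicLoc.isInvertible_pullback h hD1) hE' hD', hdtY n E D hD1 hE hD]
    rw [toMul_ofMul, PicGrp.pullHom_cls]
  · intro x y hx hy
    rw [map_sub, map_sub, hx, hy, map_sub, toMul_sub, map_div, ofMul_div]

end K241.DetPull
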