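import Groth.Agent.IntSh.K241.LamSum
import Groth.Agent.IntSh.K241.DetPull
import Groth.Agent.IntSh.K937.ProjDet
import Groth.Agent.Krr.H483.LamTwist

/-!
# The determinant of the push-forward of a twisted Koszul class

`main`: `det p_{2*}(λ_{-1}(p_1^* e · p_2^* l)) = q^* det π_*(λ_{-1} e) + ε(π_* γ^d([E] - (d+1))) [O(1)]` for `e = [E^∨]`,
`l = [O(-1)]`, from base change and the vanishing of `ε π_*` on `F^{d+1}`.
-/

set_option autoImplicit false
universe u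
open CategoryTheory CategoryTheory.Limits AlgebraicGeometry Finset

namespace K241.DetPB

open Groth.Agent Groth.Agent.Krr.H482.PullLambda Groth.Agent.Krr.H482.PullFinal

section Line

variable {P : Scheme.{u}} {KP : Type u} [CommRing KP] [LambdaRing.LambdaOps KP]
  {PP : LambdaRing.PosStructure KP} {φP : SGA6.Kvb P →+ KP} (hKP : KRR.IsModel P KP PP φP)
  [PicGrp.Law P] {dtP : KP →+ Additive (PicLoc.PicSet P)} (hdtP : KDet.IsDet φP dtP)
  {O1 Om : P.Modules} (hO1 : PicF.IsInvertible O1) (hOm : PicF.IsInvertible Om) (hOOm : ClSub.IsInverseOf O1 Om)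

include hKP hdtP hOm hOOm in
theorem det_mul_pow (z : KP) (i : ℕ) :
    dtP (z * φP (KRR.cl P Om) ^ i) =
      dtP z - ((i : ℤ) * PP.aug z) • Additive.ofMul (PicGrp.cls O1 hO1) := by
  have h1 : PP.aug (φP (KRR.cl P Om)) = 1 := by
    rw [hKP.aug_cl 1 Om (Ega2.QCohLocal.isFinLocFreeOfRank_one_iff.2 hOm)]; rfl
  induction i with
  | zero => simp
  | succ i ih =>
    rw [pow_succ, ← mul_assoc, K937.ProjDet.det_mul_line hKP hdtP hOm, ih, map_mul, map_pow, h1, one_pow, mul_one]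
    have : PicGrp.cls Om hOm = (PicGrp.cls O1 hO1)⁻¹ := (PicGrp.cls_inv_eq_cls hO1 hOm hOOm).symm
    rw [this, ofMul_inv, smul_neg, Nat.cast_succ, add_mul, one_mul, add_smul]
    abel

end Line

theorem neg_one_pow_smul {K : Type*} [CommRing K] (i : ℕ) (x : K) : (-1 : K) ^ i * x = (-1 : ℤ) ^ i • x := by
  rw [zsmul_eq_mul]
  push_cast
  rfl

section Main

variable {X Y P XP : Scheme.{u}} [IsNoetherian X] [ConnectedSpace X] {p₁ : XP ⟶ X} {p₂ : XP ⟶ P} {q : P ⟶ Y}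
    {d : ℕ}
    {KX : Type u} [CommRing KX] [LambdaRing.LambdaOps KX] {PX : LambdaRing.PosStructure KX}
    {φX : SGA6.Kvb X →+ KX} (hKX : KRR.IsModel X KX PX φX)
    {KY : Type u} [CommRing KY] [LambdaRing.LambdaOps KY] {PY : LambdaRing.PosStructure KY}
    {φY : SGA6.Kvb Y →+ KY} (hKY : KRR.IsModel Y KY PY φY)
    (g : KX →+ KY)
    [PicGrp.Law Y] {dt : KY →+ Additive (PicLoc.PicSet Y)} (hdt : KDet.IsDet φY dt)
    {E : X.Modules} (hE : FlatMod.IsFinLocFreeOfRank (d + 1) E)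
    {O1 Om : P.Modules} (hO1 : PicF.IsInvertible O1) (hOm : PicF.IsInvertible Om) (hOOm : ClSub.IsInverseOf O1 Om)
    {KP : Type u} [CommRing KP] [LambdaRing.LambdaOps KP] {PP : LambdaRing.PosStructure KP}
    {φP : SGA6.Kvb P →+ KP} (hKP : KRR.IsModel P KP PP φP)
    {KPX : Type u} [CommRing KPX] [LambdaRing.LambdaOps KPX] {PPX : LambdaRing.PosStructure KPX}
    {φPX : SGA6.Kvb XP →+ KPX} (hKPX : KRR.IsModel XP KPX PPX φPX)
    {pp₁ : KX →+ KPX} (hpp₁ : KRR.IsPull p₁ φX φPX pp₁)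
    {pp₂ : KP →+ KPX} (hpp₂ : KRR.IsPull p₂ φP φPX pp₂)
    {pY : KY →+ KP} (hpY : KRR.IsPull q φY φP pY)
    (g₂ : KPX →+ KP)
    [PicGrp.Law P] {dtP : KP →+ Additive (PicLoc.PicSet P)} (hdtP : KDet.IsDet φP dtP)
    (hmul : PicGrp.PullMul q)
    (hbc : ∀ (x : KX) (y : KP), g₂ (pp₁ x * pp₂ y) = pY (g x) * y)
    (haug : ∀ x ∈ LambdaRing.gammaFiltration PX (d + 1), PY.aug (g x) = 0)

omit [AlgebraicGeometry.IsNoetherian X] [ConnectedSpace X] [PicGrp.Law P] in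
include hKX hKP hKPX hpp₁ hpp₂ hE hOm in
theorem lamAlt_eq :
    KRR.lamAlt PPX (pp₁ (φX (KRR.cl X (RefHull.dual E))) * pp₂ (φP (KRR.cl P Om))) =
      ∑ i ∈ range (d + 2), (-1 : KPX) ^ i *
        (pp₁ (LambdaRing.LambdaOps.lam i (φX (KRR.cl X (RefHull.dual E)))) * pp₂ (φP (KRR.cl P Om) ^ i)) := by
  have hOm1 : FlatMod.IsFinLocFreeOfRank 1 Om := Ega2.QCohLocal.isFinLocFreeOfRank_one_iff.2 hOm
  have hdual := K879.DualCmp.isFinLocFreeOfRank_dual hE
  have h1 : (PPX.aug (pp₁ (φX (KRR.cl X (RefHull.dual E))) * pp₂ (φP (KRR.cl P Om)))).toNat = d + 1 := by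
    rw [map_mul, pull_aug hKPX hKX hpp₁, pull_aug hKPX hKP hpp₂, hKX.aug_cl _ _ hdual, hKP.aug_cl 1 Om hOm1,
      Nat.cast_one, mul_one, Int.toNat_natCast]
  rw [KRR.lamAlt, h1]
  refine sum_congr rfl fun i _ => ?_
  have hl : PPX.IsLine (pp₂ (φP (KRR.cl P Om))) := by
    rw [hpp₂ Om (isFinLocFree_of_rank hOm1)]
    exact K879.DualAlg.isLine_cl hKPX (isFinLocFreeOfRank_pullback p₂ hOm1)
  rw [Krr.H483.LamTwist.lam_mul_line hKPX hl, pull_lam hKPX hKX hpp₁]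
  congr 2
  exact (map_pow (pullRingHom hKPX hKP hpp₂) _ i).symm

include hKX hKY hdt hE hO1 hOm hOOm hKP hKPX hpp₁ hpp₂ hpY hdtP hmul hbc haug in
theorem main :
    dtP (g₂ (KRR.lamAlt PPX (pp₁ (φX (KRR.cl X (RefHull.dual E))) * pp₂ (φP (KRR.cl P Om))))) =
      Additive.ofMul (PicGrp.pullHom q hmul (Additive.toMul
          (dt (g (KRR.lamAlt PX (φX (KRR.cl X (RefHull.dual E)))))))) +
        (PY.aug (g (LambdaRing.gamma d (φX (KRR.cl X E) - ((d + 1 : ℕ) : KX))))) •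
          Additive.ofMul (PicGrp.cls O1 hO1) := by
  rw [lamAlt_eq hKX hE hOm hKP hKPX hpp₁ hpp₂, ← DetPull.det_pull hKY hdtP hdt q hmul hpY]
  have hdual := K879.DualCmp.isFinLocFreeOfRank_dual hE
  set e := φX (KRR.cl X (RefHull.dual E)) with he
  set c := Additive.ofMul (PicGrp.cls O1 hO1) with hc
  have h1 : ∀ i : ℕ, dtP (g₂ ((-1 : KPX) ^ i * (pp₁ (LambdaRing.LambdaOps.lam i e) * pp₂ (φP (KRR.cl P Om) ^ i)))) =
      dtP (pY (g ((-1 : KX) ^ i * LambdaRing.LambdaOps.lam i e))) -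
        PY.aug (g ((-1 : KX) ^ i * (i : KX) * LambdaRing.LambdaOps.lam i e)) • c := by
    intro i
    rw [neg_one_pow_smul, map_zsmul, map_zsmul, hbc, det_mul_pow hKP hdtP hO1 hOm hOOm, pull_aug hKP hKY hpY,
      mul_assoc ((-1 : KX) ^ i), neg_one_pow_smul, neg_one_pow_smul, map_zsmul, map_zsmul, map_zsmul, map_zsmul,
      map_zsmul, smul_sub, ← nsmul_eq_mul (i : ℕ) (LambdaRing.LambdaOps.lam i e), map_nsmul, map_nsmul]
    congr 1
    rw [← smul_assoc, nsmul_eq_mul]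
  have h2 : (PX.aug e).toNat = d + 1 := by
    rw [he, hKX.aug_cl _ _ hdual, Int.toNat_natCast]
  rw [map_sum, map_sum, sum_congr rfl fun i _ => h1 i, sum_sub_distrib, ← map_sum, ← map_sum, ← map_sum, ← sum_smul,
    ← map_sum, ← map_sum, KRR.lamAlt, h2, sub_eq_add_neg, ← neg_smul]
  congr 2
  have h3 := haug _ (LamSum.sum_add_mem hKX hE)
  rw [map_add, map_add] at h3
  exact neg_eq_of_add_eq_zero_right h3

end Main

end K241.DetPB
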