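import Mathlib

/-!
# Cycles of an exact complex `… ⟶ K 1 ⟶ K 0 ⟶ 0`, splicing, split complexes
-/

set_option autoImplicit false

open CategoryTheory CategoryTheory.Limits

namespace K241.Splice

variable {C : Type*} [Category* C] [Abelian C] (K : ℕ → C) (d : ∀ p, K (p + 1) ⟶ K p)
  (w : ∀ p, d (p + 1) ≫ d p = 0)

/-- The cycles. -/
noncomputable def Z : ℕ → C
  | 0 => K 0
  | p + 1 => kernel (d p)

/-- The inclusion of the cycles. -/
noncomputable def ι : ∀ p, Z K d p ⟶ K p
  | 0 => 𝟙 _
  | _ + 1 => kernel.ι (d _)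

instance mono_ι : ∀ p, Mono (ι K d p)
  | 0 => inferInstanceAs (Mono (𝟙 (K 0)))
  | p + 1 => inferInstanceAs (Mono (kernel.ι (d p)))

/-- The differential onto the cycles. -/
noncomputable def g : ∀ p, K (p + 1) ⟶ Z K d p
  | 0 => d 0
  | p + 1 => kernel.lift (d p) (d (p + 1)) (w p)

lemma g_ι : ∀ p, g K d w p ≫ ι K d p = d p
  | 0 => Category.comp_id _
  | _ + 1 => kernel.lift_ι _ _ _

lemma ι_g (p : ℕ) : ι K d (p + 1) ≫ g K d w p = 0 := by
  rw [← cancel_mono (ι K d p), Category.assoc, g_ι, zero_comp]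
  exact kernel.condition (d p)

/-- `0 ⟶ Z (p + 1) ⟶ K (p + 1) ⟶ Z p ⟶ 0` -/
noncomputable def S (p : ℕ) : ShortComplex C := ShortComplex.mk (ι K d (p + 1)) (g K d w p) (ι_g K d w p)

lemma shortExact (hex : ∀ p, (ShortComplex.mk _ _ (w p)).Exact) (hepi : Epi (d 0)) (p : ℕ) :
    (S K d w p).ShortExact := by
  have h1 : (S K d w p).Exact := by
    apply ShortComplex.exact_of_f_is_kernel
    exact isKernelOfComp (f := g K d w p) (ι K d p) (d p) (kernelIsKernel (d p)) (ι_g K d w p) (g_ι K d w p)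
  have h2 : Mono (S K d w p).f := inferInstanceAs (Mono (ι K d (p + 1)))
  have h3 : Epi (S K d w p).g := by
    cases p with
    | zero => exact hepi
    | succ p =>
      have := (hex p).epi_kernelLift
      exact this
  exact { exact := h1, mono_f := h2, epi_g := h3 }

lemma isZero_Z (n : ℕ) (hn : ∀ p, n < p → IsZero (K p)) (p : ℕ) (hp : n < p) : IsZero (Z K d p) :=
  IsZero.of_mono (ι K d p) (hn p hp)

section Map

variable {D : Type*} [Category* D] [Abelian D] (T : C ⥤ D) [T.Additive]

/-- If `T` preserves the short exact sequences `0 ⟶ Z (p + 1) ⟶ K (p + 1) ⟶ Z p ⟶ 0` then `T K` is exact. -/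
theorem exact_map (h : ∀ p, ((S K d w p).map T).ShortExact) (p : ℕ)
    (w' : T.map (d (p + 1)) ≫ T.map (d p) = 0) : (ShortComplex.mk _ _ w').Exact := by
  have m : Mono (T.map (ι K d p)) := by
    cases p with
    | zero =>
      change Mono (T.map (𝟙 (K 0)))
      rw [T.map_id]
      infer_instance
    | succ p => exact (h p).mono_f
  have e : Epi (T.map (g K d w (p + 1))) := (h (p + 1)).epi_g
  let S3 : ShortComplex D := ShortComplex.mk (T.map (ι K d (p + 1))) (T.map (d p)) (by
    rw [← g_ι K d w p, ← T.map_comp, ← Category.assoc, ι_g, zero_comp, T.map_zero])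
  let φ : (S K d w p).map T ⟶ S3 :=
    { τ₁ := 𝟙 _
      τ₂ := 𝟙 _
      τ₃ := T.map (ι K d p)
      comm₁₂ := by
        change 𝟙 _ ≫ T.map (ι K d (p + 1)) = T.map (ι K d (p + 1)) ≫ 𝟙 _
        simp
      comm₂₃ := by
        change 𝟙 _ ≫ T.map (d p) = T.map (g K d w p) ≫ T.map (ι K d p)
        rw [← T.map_comp, g_ι, Category.id_comp] }
  have h3 : S3.Exact := by
    have i1 : Epi φ.τ₁ := inferInstanceAs (Epi (𝟙 _))
    have i2 : IsIso φ.τ₂ := inferInstanceAs (IsIso (𝟙 _))
    have i3 : Mono φ.τ₃ := m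
    exact (ShortComplex.exact_iff_of_epi_of_isIso_of_mono φ).1 (h p).exact
  let ψ : ShortComplex.mk _ _ w' ⟶ S3 :=
    { τ₁ := T.map (g K d w (p + 1))
      τ₂ := 𝟙 _
      τ₃ := 𝟙 _
      comm₁₂ := by
        change T.map (g K d w (p + 1)) ≫ T.map (ι K d (p + 1)) = T.map (d (p + 1)) ≫ 𝟙 _
        rw [← T.map_comp, g_ι, Category.comp_id]
      comm₂₃ := by
        change 𝟙 _ ≫ T.map (d p) = T.map (d p) ≫ 𝟙 _
        simp }
  have i1 : Epi ψ.τ₁ := e
  have i2 : IsIso ψ.τ₂ := inferInstanceAs (IsIso (𝟙 _))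
  have i3 : Mono ψ.τ₃ := inferInstanceAs (Mono (𝟙 _))
  exact (ShortComplex.exact_iff_of_epi_of_isIso_of_mono ψ).2 h3

theorem epi_map (h : ∀ p, ((S K d w p).map T).ShortExact) : Epi (T.map (d 0)) := (h 0).epi_g

/-- If all `K p` are projective then the complex is split. -/
theorem projective_Z (hex : ∀ p, (ShortComplex.mk _ _ (w p)).Exact) (hepi : Epi (d 0))
    (hK : ∀ p, Projective (K p)) : ∀ p, Projective (Z K d p)
  | 0 => hK 0
  | p + 1 => by
    have hp := projective_Z hex hepi hK p
    have : Projective (S K d w p).X₃ := hp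
    have hS := shortExact K d w hex hepi p
    have := hS.mono_f
    have : Epi (S K d w p).g := hS.epi_g
    let s : (S K d w p).Splitting := ShortComplex.Splitting.ofExactOfSection _ hS.exact
      (Projective.factorThru (𝟙 _) (S K d w p).g) (Projective.factorThru_comp _ _) inferInstance
    have := hK (p + 1)
    exact Projective.of_iso (P := Z K d (p + 1)) (Iso.refl _) (by
      refine ⟨fun f e he => ?_⟩
      refine ⟨ι K d (p + 1) ≫ Projective.factorThru (s.r ≫ f) e, ?_⟩
      rw [Category.assoc, Projective.factorThru_comp, ← Category.assoc]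
      have h1 : ι K d (p + 1) ≫ s.r = 𝟙 _ := s.f_r
      exact (congrArg (· ≫ f) h1).trans (Category.id_comp f))

theorem map_shortExact_of_projective (hex : ∀ p, (ShortComplex.mk _ _ (w p)).Exact) (hepi : Epi (d 0))
    (hK : ∀ p, Projective (K p)) (p : ℕ) : ((S K d w p).map T).ShortExact := by
  have : Projective (S K d w p).X₃ := projective_Z K d w hex hepi hK p
  have hS := shortExact K d w hex hepi p
  have := hS.mono_f
  have : Epi (S K d w p).g := hS.epi_g
  exact ((ShortComplex.Splitting.ofExactOfSection _ hS.exact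
    (Projective.factorThru (𝟙 _) (S K d w p).g) (Projective.factorThru_comp _ _) inferInstance).map T).shortExact

end Map

end K241.Splice
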