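import Groth.Prelude.Def_KDet
import Groth.Agent.ArSurf.K482.DetPic
import Groth.Agent.Cohder.RDAcyc
import Groth.Agent.Dcoh.Spread
import Groth.Agent.IntSh.K241.Splice

/-!
# Determinants of the direct image of an exact complex of acyclic sheaves
-/

set_option autoImplicit false

universe u

open CategoryTheory CategoryTheory.Limits AlgebraicGeometry
open Groth.Agent K241.Splice

namespace K241.DetPush

section Rank

variable {X : Scheme.{u}}

/-- The kernel of an epimorphism between finite locally free modules of constant ranks. -/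
theorem exists_rank [Nonempty X] {S : ShortComplex X.Modules} (hS : S.ShortExact) {a b : ℕ}
    (h₂ : FlatMod.IsFinLocFreeOfRank a S.X₂) (h₃ : FlatMod.IsFinLocFreeOfRank b S.X₃) :
    ∃ c, FlatMod.IsFinLocFreeOfRank c S.X₁ := by
  have := hS.epi_g
  have := hS.mono_f
  have e : kernel S.g ≅ S.X₁ := (hS.fIsKernel.conePointUniqueUpToIso (kernelIsKernel S.g)).symm
  have h₁ : FlatMod.IsFinLocFree S.X₁ := Sga67.LocBasis.isFinLocFree_of_iso e
    (Groth.Agent.Dcoh.Spread.isFinLocFree_kernel S.g (Krr.H495.Rank.isFinLocFree_of_rank h₂)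
      (Krr.H495.Rank.isFinLocFree_of_rank h₃))
  refine ⟨a - b, Krr.H495.Rank.isFinLocFreeOfRank_iff.2 ⟨h₁, fun x => ?_⟩⟩
  have h4 := Krr.H495.Rank.rk_shortExact hS h₁ (Krr.H495.Rank.isFinLocFree_of_rank h₃) x
  rw [Krr.H495.Rank.rk_of_rank h₂, Krr.H495.Rank.rk_of_rank h₃] at h4
  omega

end Rank

/-- The telescoping product. -/
theorem prod_eq {G : Type*} [CommGroup G] (k z : ℕ → G) (h0 : k 0 = z 0) (h : ∀ p, k (p + 1) = z (p + 1) * z p) (n : ℕ) :
    ∏ p ∈ Finset.range (n + 1), (k p) ^ ((-1 : ℤ) ^ p) = (z n) ^ ((-1 : ℤ) ^ n) := by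
  induction n with
  | zero => simp [h0]
  | succ n ih =>
    rw [Finset.prod_range_succ, ih, h, mul_zpow, pow_succ, mul_neg_one, zpow_neg (z n), mul_comm, mul_assoc,
      inv_mul_cancel, mul_one]

theorem det_push {X U : Scheme.{u}} (π : X ⟶ U) [HasInjectiveResolutions X.Modules] (K : ℕ → X.Modules)
    (d : ∀ p, K (p + 1) ⟶ K p) (w : ∀ p, d (p + 1) ≫ d p = 0)
    (hex : ∀ p, (ShortComplex.mk _ _ (w p)).Exact) (hepi : Epi (d 0)) (n : ℕ) (hn : ∀ p, n < p → IsZero (K p))
    (hac : ∀ p j : ℕ, 0 < j → IsZero ((Coh.Rpush π j).obj (K p)))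
    (a : ℕ → ℕ) (hA : ∀ p, FlatMod.IsFinLocFreeOfRank (a p) ((Coh.push π).obj (K p))) :
    ∏ p ∈ Finset.range (n + 1), (K482.DetPic.det (hA p)) ^ ((-1 : ℤ) ^ p) = 1 := by
  rcases isEmpty_or_nonempty U with hU | hU
  · exact K482.DetPic.subsingleton_pic _ _
  have hS := shortExact K d w hex hepi
  have hzero : ∀ p, n < p → IsZero (Z K d p) := isZero_Z K d n hn
  -- the cycles are acyclic
  have hZ : ∀ m p, n < p + m → Cohder.RDAcyc.IsAcyc (Coh.push π) (Z K d p) := by
    intro m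
    induction m with
    | zero =>
      intro p hp
      have : Injective (Z K d p) := (hzero p hp).injective
      exact Cohder.RDAcyc.isAcyc_injective (Coh.push π) (Z K d p)
    | succ m ih =>
      intro p hp
      exact Cohder.RDAcyc.isAcyc_X₃ (Coh.push π) (hS p) (ih (p + 1) (by omega)) (fun i hi => hac (p + 1) i hi)
  have hPS : ∀ p, ((S K d w p).map (Coh.push π)).ShortExact := fun p =>
    Cohder.RDAcyc.map_shortExact (Coh.push π) (hS p) (hZ (n + 1) (p + 1) (by omega) 1 one_pos)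
  have hr : ∀ p, ∃ c, FlatMod.IsFinLocFreeOfRank c ((Coh.push π).obj (Z K d p)) := by
    intro p
    induction p with
    | zero => exact ⟨a 0, hA 0⟩
    | succ p ih =>
      obtain ⟨c, hc⟩ := ih
      exact exists_rank (hPS p) (hA (p + 1)) hc
  choose c hc using hr
  have h1 := prod_eq (fun p => K482.DetPic.det (hA p)) (fun p => K482.DetPic.det (hc p))
    (K482.DetPic.det_congr _ _ ⟨Iso.refl _⟩)
    (fun p => K482.DetPic.det_ses (hPS p) (hc (p + 1)) (hA (p + 1)) (hc p)) n
  rw [h1]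
  -- the last cycles vanish
  have hz0 : IsZero (Z K d n) := by
    have h : Epi (S K d w n).g := (hS n).epi_g
    exact @IsZero.of_epi _ _ _ _ _ (S K d w n).g h (hn (n + 1) (Nat.lt_succ_self n))
  have hz1 : IsZero (Z K d (n + 1)) := hzero (n + 1) (Nat.lt_succ_self n)
  have h2 : K482.DetPic.det (hc (n + 1)) = K482.DetPic.det (hc n) :=
    K482.DetPic.det_congr _ _ ⟨(Coh.push π).mapIso (hz1.iso hz0)⟩
  have h3 : K482.DetPic.det (hA (n + 1)) = K482.DetPic.det (hc n) :=
    K482.DetPic.det_congr _ _ ⟨(Coh.push π).mapIso ((hn (n + 1) (Nat.lt_succ_self n)).iso hz0)⟩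
  have h4 : K482.DetPic.det (hA (n + 1)) = K482.DetPic.det (hc (n + 1)) * K482.DetPic.det (hc n) :=
    K482.DetPic.det_ses (hPS n) (hc (n + 1)) (hA (n + 1)) (hc n)
  rw [h2, h3] at h4
  have h5 : K482.DetPic.det (hc n) = 1 := by
    simpa using h4
  rw [h5, one_zpow]

end K241.DetPush
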