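import Groth.Prelude.Def_KDet
import Groth.Prelude.Def_KoszulSh
import Groth.Agent.IntSh.K389.Van
import Groth.Agent.Krr.H502.KosSheaf
import Groth.Agent.Krr.H495.Rank
import Groth.Agent.IntSh.K879.KosStk
import Groth.Agent.Dcoh.StalkT
import Groth.Agent.IntSh.K241.Splice

/-!
# The Koszul complex of a cosection twisted by a module, off the vanishing locus of the cosection
-/

set_option autoImplicit false

universe u

open CategoryTheory CategoryTheory.Limits AlgebraicGeometry Opposite TopologicalSpace MonoidalCategory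
open Groth.Agent Groth.Agent.Sga67.Sec Groth.Agent.Sga67.LocBasis Groth.Agent.Sga67.LocBasisStalk
open Groth.Agent.Sga67.ExtSheaf Groth.Agent.Sga67.SymKoszulAlg Groth.Agent.Krr.H502.KosExt
open Groth.Agent.Krr.H502.KosSheaf Groth.Agent.Dcoh.Stalk K389.Van K241.Splice K879.KosStk

namespace K241.Kos

open scoped ZeroObject

variable {X : Scheme.{u}}

section Joint

lemma isZero_of_stalk (M : X.Modules) (h : ∀ x : X, IsZero ((stalkF x).obj M)) : IsZero M := by
  have : ∀ x : X, IsIso ((stalkF x).map (0 : M ⟶ 0)) := fun x =>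
    ⟨0, (h x).eq_of_src _ _, ((stalkF x).map_isZero (isZero_zero X.Modules)).eq_of_src _ _⟩
  have h1 : IsIso (0 : M ⟶ 0) := (jointlyReflectIsos X).isIso _
  exact (isZero_zero X.Modules).of_iso (asIso (0 : M ⟶ 0))

lemma exact_of_stalk (T : ShortComplex X.Modules) (h : ∀ x : X, (T.map (stalkF x)).Exact) : T.Exact := by
  rw [ShortComplex.exact_iff_isZero_homology]
  refine isZero_of_stalk _ fun x => ?_
  exact ((T.map (stalkF x)).exact_iff_isZero_homology.1 (h x)).of_iso (T.mapHomologyIso (stalkF x)).symm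

lemma epi_of_stalk {M N : X.Modules} (f : M ⟶ N) (h : ∀ x : X, Epi ((stalkF x).map f)) : Epi f := by
  have h1 : (ShortComplex.mk f (0 : N ⟶ 0) comp_zero).Exact := exact_of_stalk _ fun x => by
    rw [ShortComplex.exact_iff_epi _ (by
      change (stalkF x).map (0 : N ⟶ 0) = 0
      exact (stalkF x).map_zero _ _)]
    exact h x
  rwa [ShortComplex.exact_iff_epi _ rfl] at h1

end Joint

section Local

variable {E : X.Modules} {s : E ⟶ Coh.structureModule X} {x : X} (hx : ¬ Van s x)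

include hx in
theorem exists_aff (U : X.Opens) (hU : x ∈ U) :
    ∃ (W : X.affineOpens), W.1 ≤ U ∧ x ∈ W.1 ∧ ∃ m : Sec E W.1, IsUnit (lin s W.1 m) := by
  obtain ⟨V, m, hm⟩ := not_van_iff.1 hx
  obtain ⟨_, ⟨W, rfl⟩, hxW, hWU⟩ := Opens.isBasis_iff_nbhd.mp (affineBasis X)
    (show x ∈ U ⊓ X.basicOpen (KoszSh.secForm s V m) from ⟨hU, hm⟩)
  refine ⟨W, hWU.trans inf_le_left, hxW,
    res E ((hWU.trans inf_le_right).trans (X.basicOpen_le _)) m, ?_⟩
  rw [lin_res]
  have h1 : IsUnit (resO X (X.basicOpen_le (KoszSh.secForm s V m)) (lin s V m)) :=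
    RingedSpace.isUnit_res_basicOpen _ _
  have h2 : resO X ((hWU.trans inf_le_right).trans (X.basicOpen_le _)) (lin s V m) =
      resO X (hWU.trans inf_le_right) (resO X (X.basicOpen_le (KoszSh.secForm s V m)) (lin s V m)) := by
    rw [resO_resO]
  rw [h2]
  exact h1.map _

variable {a : ℕ} {L₂ L₁ L₀ : X.Modules} (φ₂ : Phi (a + 2) E L₂) (φ₁ : Phi (a + 1) E L₁) (φ₀ : Phi a E L₀)

include hx in
theorem exact_stalk {d₂ : L₂ ⟶ L₁} (hd₂ : IsCtr s φ₂ φ₁ d₂) {d₁ : L₁ ⟶ L₀}
    (hd₁ : IsCtr s φ₁ φ₀ d₁) (w : d₂ ≫ d₁ = 0) : ((ShortComplex.mk d₂ d₁ w).map (stalkF x)).Exact := by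
  rw [ShortComplex.moduleCat_exact_iff]
  intro t ht
  obtain ⟨U, hU, y, rfl⟩ := exists_ger L₁ x t
  have h1 : ger L₀ x hU (appS d₁ U y) = 0 := (sM_ger x d₁ hU y).symm.trans ht
  obtain ⟨V, hV, hxV, h2⟩ := Sga67.KosStalk.gm_eq_zero L₀ hU (appS d₁ U y) h1
  obtain ⟨W, hWV, hxW, m, hm⟩ := exists_aff hx V hxV
  have h3 : ctr (lin s W.1) a (φ₁ W (res L₁ (hWV.trans hV) y)) = 0 := by
    rw [← hd₁ W, appS_res]
    have h4 : res L₀ hV (appS d₁ U y) = 0 := h2
    rw [← res_res L₀ hV hWV, h4, map_zero, map_zero]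
  obtain ⟨z, hz⟩ := kosEx_of_isUnit (lin s W.1) m hm a _ h3
  refine ⟨ger L₂ x hxW ((φ₂ W).symm z), ?_⟩
  refine (sM_ger x d₂ hxW ((φ₂ W).symm z)).trans ?_
  rw [← ger_res L₁ (hWV.trans hV) x hxW y]
  congr 1
  apply (φ₁ W).injective
  rw [hd₂ W, LinearEquiv.apply_symm_apply]
  exact hz

include hx in
theorem epi_stalk {L₁ L₀ : X.Modules} (φ₁ : Phi 1 E L₁) (φ₀ : Phi 0 E L₀) {d : L₁ ⟶ L₀}
    (hd : IsCtr s φ₁ φ₀ d) : Epi ((stalkF x).map d) := by
  rw [ModuleCat.epi_iff_surjective]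
  intro t
  obtain ⟨U, hU, y, rfl⟩ := exists_ger L₀ x t
  obtain ⟨W, hWU, hxW, m, hm⟩ := exists_aff hx U hU
  obtain ⟨b, hb⟩ := hm.exists_left_inv
  refine ⟨ger L₁ x hxW ((φ₁ W).symm (crt (b • m) 0 (φ₀ W (res L₀ hWU y)))), ?_⟩
  refine (sM_ger x d hxW _).trans ?_
  rw [← ger_res L₀ hWU x hxW y]
  congr 1
  apply (φ₀ W).injective
  rw [hd W, LinearEquiv.apply_symm_apply, ctr_crt_zero, map_smul, smul_eq_mul, hb, one_smul]

end Local

section Main

/-- The stalks of a finite locally free module are projective. -/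
theorem projective_stalk {M : X.Modules} (hM : FlatMod.IsFinLocFree M) (x : X) :
    Projective ((stalkF x).obj M) := by
  obtain ⟨U, hx, b, hb⟩ := Krr.H495.Rank.exists_isLocBasis hM x
  have := Module.Projective.of_basis (Krr.H490.LocBasisPull.stalkBasis hb x hx)
  exact (IsProjective.iff_projective _).1 this

theorem exists_koszul {n : ℕ} {E : X.Modules} (hE : FlatMod.IsFinLocFreeOfRank n E)
    (s : E ⟶ Coh.structureModule X) (L : ℕ → X.Modules) (hL : ∀ p, ExtPow.IsExtPow p E (L p))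
    (F : X.Modules) (hF : ∀ x ∈ CohB1.support F, ¬ Van s x) :
    ∃ (d : ∀ p, L (p + 1) ⟶ L p)
      (w : ∀ p, ((DCoh.tensorBi (X := X)).obj F).map (d (p + 1)) ≫ ((DCoh.tensorBi (X := X)).obj F).map (d p) = 0),
      (∀ p, (ShortComplex.mk _ _ (w p)).Exact) ∧ Epi (((DCoh.tensorBi (X := X)).obj F).map (d 0)) := by
  choose φ hφ using fun p => exists_phi (hL p)
  choose d hd using fun p => exists_ctr s (φ (p + 1)) (hφ (p + 1)) (φ p) (hφ p)
  have w₀ : ∀ p, d (p + 1) ≫ d p = 0 := fun p => ctr_comp s (φ (p + 2)) (φ (p + 1)) (φ p) (hd (p + 1)) (hd p)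
  have w : ∀ p, ((DCoh.tensorBi (X := X)).obj F).map (d (p + 1)) ≫
      ((DCoh.tensorBi (X := X)).obj F).map (d p) = 0 := fun p => by
    rw [← Functor.map_comp, w₀, Functor.map_zero]
  have hE' := Krr.H495.Rank.isFinLocFree_of_rank hE
  -- the situation at a point of the support
  have key : ∀ x ∈ CohB1.support F,
      (∀ p, ((ShortComplex.mk _ _ (w p)).map (stalkF x)).Exact) ∧
        Epi ((stalkF x).map (((DCoh.tensorBi (X := X)).obj F).map (d 0))) := by
    intro x hxF
    have hx := hF x hxF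
    let K : ℕ → ModuleCat.{u} (X.presheaf.stalk x) := fun p => (stalkF x).obj (L p)
    let dK : ∀ p, K (p + 1) ⟶ K p := fun p => (stalkF x).map (d p)
    have wK : ∀ p, dK (p + 1) ≫ dK p = 0 := fun p => by
      change (stalkF x).map (d (p + 1)) ≫ (stalkF x).map (d p) = 0
      rw [← Functor.map_comp, w₀, Functor.map_zero]
    have hex : ∀ p, (ShortComplex.mk _ _ (wK p)).Exact := fun p =>
      exact_stalk hx (φ (p + 2)) (φ (p + 1)) (φ p) (hd (p + 1)) (hd p) (w₀ p)
    have hepi : Epi (dK 0) := epi_stalk hx (φ 1) (φ 0) (hd 0)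
    have hproj : ∀ p, Projective (K p) := fun p =>
      projective_stalk (isFinLocFree_of_isExtPow hE' (hL p)) x
    have hS := map_shortExact_of_projective K dK wK (tensorLeft ((stalkF x).obj F)) hex hepi hproj
    let e := tensorBiStalk F x
    refine ⟨fun p => ?_, ?_⟩
    · have h1 := exact_map K dK wK (tensorLeft ((stalkF x).obj F)) hS p (by
        rw [← Functor.map_comp, wK, Functor.map_zero])
      refine (ShortComplex.exact_iff_of_iso (ShortComplex.isoMk (e.app (L (p + 2))) (e.app (L (p + 1)))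
        (e.app (L p)) ?_ ?_)).2 h1
      · exact (e.hom.naturality (d (p + 1))).symm
      · exact (e.hom.naturality (d p)).symm
    · have h1 := epi_map K dK wK (tensorLeft ((stalkF x).obj F)) hS
      have h2 : (stalkF x).map (((DCoh.tensorBi (X := X)).obj F).map (d 0)) =
          e.hom.app (L 1) ≫ (tensorLeft ((stalkF x).obj F)).map (dK 0) ≫ e.inv.app (L 0) := by
        have := e.hom.naturality (d 0)
        rw [← Category.assoc]
        exact (Iso.eq_comp_inv (e.app (L 0))).2 this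
      rw [h2]
      infer_instance
  have hzero : ∀ x, x ∉ CohB1.support F → ∀ N : X.Modules,
      IsZero ((stalkF x).obj (((DCoh.tensorBi (X := X)).obj F).obj N)) := by
    intro x hx N
    have h1 : IsZero ((stalkF x).obj F) := by
      rw [ModuleCat.isZero_iff_subsingleton]
      exact not_not.1 hx
    exact ((tensorRight ((stalkF x).obj N)).map_isZero h1).of_iso (tensorStalkIso F N x)
  refine ⟨d, w, fun p => exact_of_stalk _ fun x => ?_, epi_of_stalk _ fun x => ?_⟩
  · by_cases hx : x ∈ CohB1.support F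
    · exact (key x hx).1 p
    · exact ShortComplex.exact_of_isZero_X₂ _ (hzero x hx _)
  · by_cases hx : x ∈ CohB1.support F
    · exact (key x hx).2
    · exact (hzero x hx _).epi _

end Main

end K241.Kos
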