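import Groth.Agent.IntSh.K879.DualAlg
import Groth.Agent.IntSh.K879.DualCmp

/-!
# `Σ (-1)^i i λ^i [E^∨] = -γ^d ([E] - (d+1)) · [det E]⁻¹`
-/

set_option autoImplicit false
universe u v
open CategoryTheory CategoryTheory.Limits AlgebraicGeometry Finset

namespace K241.LamSum

open Groth.Agent

section Alg

variable {K : Type v} [CommRing K] [LambdaRing.LambdaOps K] (P : LambdaRing.PosStructure K)

theorem gamma_one (x : K) : LambdaRing.gamma 1 x = x := by
  rw [LambdaRing.gamma, if_neg one_ne_zero, sum_range_succ, sum_range_one]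
  simp [LambdaRing.LambdaOps.lam_one]

theorem gamma_zero (x : K) : LambdaRing.gamma 0 x = 1 := by
  rw [LambdaRing.gamma, if_pos rfl]

/-- The coefficient of `t` in the top `γ`-relation. -/
theorem gamma_eq_sum {e : K} (he : e ∈ P.pos) {d : ℕ} (hr : P.aug e = ((d + 1 : ℕ) : ℤ)) :
    LambdaRing.gamma d (e - ((d + 1 : ℕ) : K)) =
      ∑ j ∈ range (d + 2), LambdaRing.LambdaOps.lam j e * (((d + 1 - j : ℕ) : K) * (-1) ^ (d - j)) := by
  have h1 := Groth.Agent.S3290.result K P e he
  have hr' : (P.aug e).toNat = d + 1 := by rw [hr]; exact Int.toNat_natCast _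
  rw [hr'] at h1
  have h2 := congrArg (fun p => Polynomial.coeff p 1) h1
  simp only [Polynomial.finsetSum_coeff, Polynomial.coeff_C_mul] at h2
  rw [sum_eq_single_of_mem d (mem_range.2 (by omega))] at h2
  · rw [show d + 1 - d = 1 by omega, pow_one, Polynomial.coeff_X_one, mul_one] at h2
    rw [h2]
    refine sum_congr rfl fun j hj => ?_
    congr 1
    have h3 : (Polynomial.X - 1 : Polynomial K) = Polynomial.X + Polynomial.C (-1) := by
      rw [Polynomial.C_neg, Polynomial.C_1, sub_eq_add_neg]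
    rw [h3, Polynomial.coeff_X_add_C_pow, Nat.choose_one_right, mul_comm,
      show d + 1 - j - 1 = d - j by omega]
  · intro i hi hid
    rw [mem_range] at hi
    rw [Polynomial.coeff_X_pow, if_neg (by omega), mul_zero]

/-- The alternating weighted sum of the exterior powers of the dual. -/
theorem sum_mul_top {e f : K} (he : e ∈ P.pos) {d : ℕ} (hr : P.aug e = ((d + 1 : ℕ) : ℤ))
    (h : ∀ j, j ≤ d + 1 → LambdaRing.LambdaOps.lam j f * LambdaRing.LambdaOps.lam (d + 1) e =
      LambdaRing.LambdaOps.lam (d + 1 - j) e) :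
    (∑ i ∈ range (d + 2), (-1 : K) ^ i * (i : K) * LambdaRing.LambdaOps.lam i f) *
      LambdaRing.LambdaOps.lam (d + 1) e = -LambdaRing.gamma d (e - ((d + 1 : ℕ) : K)) := by
  rw [gamma_eq_sum P he hr, sum_mul, ← sum_range_reflect
    (fun j => LambdaRing.LambdaOps.lam j e * (((d + 1 - j : ℕ) : K) * (-1) ^ (d - j))), ← sum_neg_distrib]
  refine sum_congr rfl fun i hi => ?_
  rw [mem_range] at hi
  have h1 : d + 1 - (d + 2 - 1 - i) = i := by omega
  rw [mul_assoc, h i (by omega), h1, show d + 2 - 1 - i = d + 1 - i by omega]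
  rcases Nat.eq_zero_or_pos i with rfl | hi0
  · simp
  · rw [show d - (d + 1 - i) = i - 1 by omega]
    obtain ⟨k, rfl⟩ : ∃ k, i = k + 1 := ⟨i - 1, by omega⟩
    rw [Nat.add_sub_cancel, pow_succ]
    ring

/-- `γ^d(x) (y - 1) ∈ F^{d+1}` for `x`, `y - 1` of augmentation zero. -/
theorem gamma_mul_mem {d : ℕ} {x y : K} (hx : P.aug x = 0) (hy : P.aug y = 0) :
    LambdaRing.gamma d x * y ∈ LambdaRing.gammaFiltration P (d + 1) := by
  rw [LambdaRing.gammaFiltration, if_neg (Nat.succ_ne_zero d)]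
  refine AddSubgroup.subset_closure ⟨[(d, x), (1, y)], ?_, ?_, ?_⟩
  · intro p hp
    simp only [List.mem_cons, List.not_mem_nil, or_false] at hp
    rcases hp with rfl | rfl
    · exact hx
    · exact hy
  · simp
  · simp [gamma_one]

end Alg

section Model

variable {X : Scheme.{u}} [IsNoetherian X] [ConnectedSpace X]
  {K : Type u} [CommRing K] [LambdaRing.LambdaOps K] {P : LambdaRing.PosStructure K}
  {φ : SGA6.Kvb X →+ K} (hK : KRR.IsModel X K P φ) {d : ℕ} {E : X.Modules}
  (hE : FlatMod.IsFinLocFreeOfRank (d + 1) E)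

include hK hE

theorem lam_dual (j : ℕ) (hj : j ≤ d + 1) :
    LambdaRing.LambdaOps.lam j (φ (KRR.cl X (RefHull.dual E))) * LambdaRing.LambdaOps.lam (d + 1) (φ (KRR.cl X E)) =
      LambdaRing.LambdaOps.lam (d + 1 - j) (φ (KRR.cl X E)) :=
  K879.DualAlg.lam_dual_mul hK (Nat.succ_pos d) hE _ (K879.DualCmp.dual_mul_lam hK (Nat.succ_pos d) hE) j hj

/-- The weighted alternating sum and `γ^d` differ by an element of `F^{d+1}`. -/
theorem sum_add_mem :
    (∑ i ∈ range (d + 2), (-1 : K) ^ i * (i : K) *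
        LambdaRing.LambdaOps.lam i (φ (KRR.cl X (RefHull.dual E)))) +
      LambdaRing.gamma d (φ (KRR.cl X E) - ((d + 1 : ℕ) : K)) ∈ LambdaRing.gammaFiltration P (d + 1) := by
  have hpos : φ (KRR.cl X E) ∈ P.pos := (hK.mem_pos_iff _).2 ⟨d + 1, E, Nat.succ_pos d, hE, rfl⟩
  have haug : P.aug (φ (KRR.cl X E)) = ((d + 1 : ℕ) : ℤ) := hK.aug_cl (d + 1) E hE
  have h1 := sum_mul_top P hpos haug (lam_dual hK hE)
  -- the determinant
  have hEf : FlatMod.IsFinLocFree E := Krr.H495.Rank.isFinLocFree_of_rank hE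
  obtain ⟨D, hDf, hD⟩ := Krr.H495.ExtExist.exists_isExtPow (d + 1) E hEf
  have hD1 : FlatMod.IsFinLocFreeOfRank 1 D := by
    have := Krr.H495.Rank.rank_extPow hE hD
    rwa [Nat.choose_self] at this
  obtain ⟨M, hM, hDM⟩ := K879.DualAlg.exists_inverse_cl hK hD1
  rw [hK.map_lam (d + 1) E D hEf hDf hD] at h1
  set S := ∑ i ∈ range (d + 2), (-1 : K) ^ i * (i : K) *
        LambdaRing.LambdaOps.lam i (φ (KRR.cl X (RefHull.dual E))) with hS
  set G := LambdaRing.gamma d (φ (KRR.cl X E) - ((d + 1 : ℕ) : K)) with hG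
  have h2 : S + G = G * (1 - φ (KRR.cl X M)) := by
    have h3 : S = S * φ (KRR.cl X D) * φ (KRR.cl X M) := by rw [mul_assoc, hDM, mul_one]
    rw [h3, h1]
    ring
  rw [h2]
  refine gamma_mul_mem P ?_ ?_
  · rw [map_sub, haug, map_natCast, sub_self]
  · rw [map_sub, map_one, hK.aug_cl 1 M hM, Nat.cast_one, sub_self]

end Model

end K241.LamSum
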