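import Groth.Agent.IntSh.K878.AcyGen
import Groth.Agent.PerfC.RelFlat
import Groth.Agent.Ega3B.Devissage
import Groth.Agent.Cohder.RDAcyc
import Groth.Agent.Sga67.CohBasic
import Groth.Agent.Dcoh.StalkT
import Groth.Agent.Dcoh.Spread
import Groth.Agent.IntSh.K878.Cap

/-!
# The intersection sheaf of a family whose first member has a regular section

`push_eq`: `π_*^F ((1 - [M]) x) = π_*^{F_B} x` when `0 → F ⊗ M → F → F_B → 0` is exact and flat over the base.
-/

set_option autoImplicit false
universe u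
open CategoryTheory CategoryTheory.Limits AlgebraicGeometry

namespace K241.RegSec

open Groth.Agent K937.ProjDet

section Good

variable {X Y : Scheme.{u}} [IsNoetherian X] [IsNoetherian Y] {π : X ⟶ Y} (hπ : RelProj.IsProjective π)
  [HasInjectiveResolutions X.Modules]

include hπ in
/-- Acyclicity passes to a retract of the twisting module. -/
theorem good_of_retract {F F' : X.Modules} (hF : Coh.IsCoh F) (hFf : FlatMod.IsFlatOver π F)
    (i : F ⟶ F') (r : F' ⟶ F) (h : i ≫ r = 𝟙 F) {E : X.Modules} (hE : Good π F' E) : Good π F E := by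
  refine K878.AcyGen.good_of_van hπ hF hFf hE.flf ?_
  intro p hp
  let T := (DCoh.tensorBi (X := X)).flip.obj E ⋙ Coh.Rpush π p
  have h1 : T.map i ≫ T.map r = 𝟙 _ := by rw [← T.map_comp, h, T.map_id]
  have h0 : IsZero (T.obj F') := hE.zero p hp
  refine (IsZero.iff_id_eq_zero _).2 ?_
  change 𝟙 (T.obj F) = 0
  rw [← h1, h0.eq_zero_of_tgt (T.map i), zero_comp]

end Good

section Push

variable {X Y : Scheme.{u}} [IsNoetherian X] [IsNoetherian Y] {π : X ⟶ Y} (hπ : RelProj.IsProjective π)
  [HasInjectiveResolutions X.Modules] (F M : X.Modules) (hF : Coh.IsCoh F) (hFf : FlatMod.IsFlatOver π F)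
  (hM : FlatMod.IsFinLocFree M) (s : M ⟶ Coh.structureModule X)
  (hreg : Mono (((DCoh.tensorBi (X := X)).obj F).map s))
  (hBf : FlatMod.IsFlatOver π (cokernel (((DCoh.tensorBi (X := X)).obj F).map s)))
  {KX : Type u} [CommRing KX] [LambdaRing.LambdaOps KX] {PX : LambdaRing.PosStructure KX}
  {φX : SGA6.Kvb X →+ KX} (hKX : KRR.IsModel X KX PX φX)
  {KY : Type u} [CommRing KY] {φY : SGA6.Kvb Y →+ KY}

theorem isCoh_tensor {X : Scheme.{u}} [IsNoetherian X] {F E : X.Modules} (hF : Coh.IsCoh F)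
    (hE : FlatMod.IsFinLocFree E) : Coh.IsCoh (((DCoh.tensorBi (X := X)).obj F).obj E) :=
  K878.PBVan.isCoh_tensor hF (PerfA.CohSerre.isCoh_of_isFinLocFree hE)

/-- The sum of the three modules of the sequence. -/
noncomputable abbrev sum3 {X : Scheme.{u}} (F M : X.Modules) (s : M ⟶ Coh.structureModule X) : X.Modules :=
  F ⊞ (((DCoh.tensorBi (X := X)).obj F).obj M ⊞ cokernel (((DCoh.tensorBi (X := X)).obj F).map s))

omit [AlgebraicGeometry.IsNoetherian Y] [HasInjectiveResolutions X.Modules] in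
include hF hM in
theorem isCoh_coker : Coh.IsCoh (cokernel (((DCoh.tensorBi (X := X)).obj F).map s)) :=
  Sga67.CohBasic.isCoh_cokernel _ (isCoh_tensor hF hM).1
    (isCoh_tensor hF Groth.Agent.Sga67.TensorOps.isFinLocFree_structureModule)

omit [AlgebraicGeometry.IsNoetherian Y] [HasInjectiveResolutions X.Modules] in
include hF hM in
theorem isCoh_sum3 : Coh.IsCoh (sum3 F M s) :=
  Sga67.CohBasic.isCoh_biprod hF (Sga67.CohBasic.isCoh_biprod (isCoh_tensor hF hM)
    (isCoh_coker F M hF hM s))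

omit [AlgebraicGeometry.IsNoetherian X] [AlgebraicGeometry.IsNoetherian Y] [HasInjectiveResolutions X.Modules] in
include hFf hM hBf in
theorem isFlatOver_sum3 : FlatMod.IsFlatOver π (sum3 F M s) :=
  PerfC.RelFlat.isFlatOver_biprod π hFf (PerfC.RelFlat.isFlatOver_biprod π
    (K878.AcyGen.isFlatOver_tensor π hM hFf) hBf)

omit [AlgebraicGeometry.IsNoetherian X] [HasInjectiveResolutions X.Modules] in
theorem support_sum3 : CohB1.support (sum3 F M s) ⊆ CohB1.support F := by
  refine (Ega3B.Devissage.support_biprod_subset _ _).trans (Set.union_subset subset_rfl ?_)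
  refine (Ega3B.Devissage.support_biprod_subset _ _).trans (Set.union_subset
    (K878.Cap.support_tensor_left F M) ?_)
  exact (Ega3B.Devissage.support_subset_of_epi (cokernel.π (((DCoh.tensorBi (X := X)).obj F).map s))).trans
    (K878.Cap.support_tensor_left F _)

/-- The fibres of the support of the sum have dimension at most `d`. -/
theorem dim_sum3 {X Y : Scheme.{u}} (π : X ⟶ Y) (F M : X.Modules) (s : M ⟶ Coh.structureModule X) (d : ℕ)
    (hd : ∀ y : Y, topologicalKrullDim ↥(CohB1.support F ∩ π.base ⁻¹' {y}) = d) (y : Y) :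
    topologicalKrullDim ↥{x : X | x ∈ CohB1.support (sum3 F M s) ∧ π.base x = y} ≤ d := by
  rw [← hd y]
  have hsub : {x : X | x ∈ CohB1.support (sum3 F M s) ∧ π.base x = y} ⊆ CohB1.support F ∩ π.base ⁻¹' {y} :=
    fun x hx => ⟨support_sum3 F M s hx.1, hx.2⟩
  have hind : Topology.IsInducing (Set.inclusion hsub) := (Topology.IsEmbedding.inclusion hsub).isInducing
  exact hind.topologicalKrullDim_le

include hπ hF hFf hM hreg hBf hKX in
theorem push_good {g g₁ : KX →+ KY} (hg : KDet.IsPushF π F φX φY g)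
    (hg₁ : KDet.IsPushF π (cokernel (((DCoh.tensorBi (X := X)).obj F).map s)) φX φY g₁) {E : X.Modules}
    (hE : Good π (sum3 F M s) E) :
    g ((1 - φX (KRR.cl X M)) * φX (KRR.cl X E)) = g₁ (φX (KRR.cl X E)) := by
  let F₁ := ((DCoh.tensorBi (X := X)).obj F).obj M
  let F₂ := cokernel (((DCoh.tensorBi (X := X)).obj F).map s)
  have hE0 : Good π F E := good_of_retract hπ hF hFf (F' := sum3 F M s) biprod.inl biprod.fst (by simp) hE
  have hE1 : Good π F₁ E := good_of_retract hπ (isCoh_tensor hF hM)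
    (K878.AcyGen.isFlatOver_tensor π hM hFf) (F' := sum3 F M s) (biprod.inl ≫ biprod.inr) (biprod.snd ≫ biprod.fst)
    (by simp) hE
  have hE2 : Good π F₂ E := good_of_retract hπ (isCoh_coker F M hF hM s) hBf (F' := sum3 F M s)
    (biprod.inr ≫ biprod.inr) (biprod.snd ≫ biprod.snd) (by simp) hE
  have hEf := hE.flf
  -- the exact sequence
  let a := ((DCoh.tensorBi (X := X)).obj F).map s
  let S : ShortComplex X.Modules := ShortComplex.mk a (cokernel.π a) (cokernel.condition a)
  have hS : S.ShortExact :=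
    { exact := ShortComplex.exact_cokernel a
      mono_f := hreg
      epi_g := inferInstanceAs (Epi (cokernel.π a)) }
  let T := (DCoh.tensorBi (X := X)).flip.obj E
  have hEl : FlatMod.IsFlat E := Dcoh.Spread.isFlat_of_isFinLocFree hEf
  have : PreservesFiniteLimits T := Dcoh.Stalk.preservesFiniteLimits_tensorBi_flip_obj E hEl
  have : PreservesFiniteColimits T := Dcoh.Stalk.preservesFiniteColimits_tensorBi_flip_obj E
  have : T.Additive := inferInstance
  have hT : (S.map T).ShortExact := hS.map_of_exact T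
  have hP : ((S.map T).map (Coh.push π)).ShortExact :=
    Cohder.RDAcyc.map_shortExact (Coh.push π) hT (hE1.zero 1 one_pos)
  -- the middle term
  let r : ((DCoh.tensorBi (X := X)).obj ((CohB1.tensorMod F (Coh.structureModule X)))).obj E ≅
      ((DCoh.tensorBi (X := X)).obj F).obj E := T.mapIso (Ega2.Tens.runit F)
  have hmid : FlatMod.IsFinLocFree ((Coh.push π).obj (T.obj S.X₂)) :=
    Dcoh.FinLocFree.isFinLocFree_of_iso ((Coh.push π).mapIso r.symm) hE0.push
  have h1 := congrArg φY (Krr.H496.PullK0.cl_ses hP hE1.push hmid hE2.push)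
  rw [map_add] at h1
  have h2 : KRR.cl Y ((Coh.push π).obj (T.obj S.X₂)) =
      KRR.cl Y ((Coh.push π).obj (((DCoh.tensorBi (X := X)).obj F).obj E)) :=
    Krr.H446.ProjFormula.cl_iso ((Coh.push π).mapIso r) hmid
  -- the product
  have hME : Good π F (CohB1.tensorMod M E) := by
    refine ⟨Sga67.LocBasis.isFinLocFree_tensorMod hM hEf, fun p hp => ?_, ?_⟩
    · exact (hE1.zero p hp).of_iso ((Coh.Rpush π p).mapIso (Ega2.Tens.assoc F M E).symm)
    · exact Dcoh.FinLocFree.isFinLocFree_of_iso ((Coh.push π).mapIso (Ega2.Tens.assoc F M E)) hE1.push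
  have h3 : φX (KRR.cl X M) * φX (KRR.cl X E) = φX (KRR.cl X (CohB1.tensorMod M E)) :=
    hKX.map_mul M E hM hEf
  have h4 : KRR.cl Y ((Coh.push π).obj (((DCoh.tensorBi (X := X)).obj F).obj (CohB1.tensorMod M E))) =
      KRR.cl Y ((Coh.push π).obj (((DCoh.tensorBi (X := X)).obj F₁).obj E)) :=
    Krr.H446.ProjFormula.cl_iso ((Coh.push π).mapIso (Ega2.Tens.assoc F M E).symm) hME.push
  rw [sub_mul, one_mul, h3, map_sub, hg E hEf hE0.zero hE0.push, hg _ hME.flf hME.zero hME.push,
    hg₁ E hEf hE2.zero hE2.push, h4, ← h2]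
  rw [sub_eq_iff_eq_add, add_comm]
  exact h1

include hπ hF hFf hM hreg hBf hKX in
theorem push_eq {g g₁ : KX →+ KY} (hg : KDet.IsPushF π F φX φY g)
    (hg₁ : KDet.IsPushF π (cokernel (((DCoh.tensorBi (X := X)).obj F).map s)) φX φY g₁)
    (hres : K878.AcyGen.HasRes π (sum3 F M s)) (x : KX) : g ((1 - φX (KRR.cl X M)) * x) = g₁ x := by
  have hx := K878.AcyGen.gen hπ (isCoh_sum3 F M hF hM s) (isFlatOver_sum3 F M hFf hM s hBf) hres hKX x
  induction hx using AddSubgroup.closure_induction with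
  | mem x hx =>
    obtain ⟨E, hE, rfl⟩ := hx
    exact push_good hπ F M hF hFf hM s hreg hBf hKX hg hg₁ hE
  | zero => simp
  | add x x' _ _ hx hx' => rw [mul_add, map_add, map_add, hx, hx']
  | neg x _ hx => rw [mul_neg, map_neg, map_neg, hx]

end Push

end K241.RegSec
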